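import Groth.Agent.H7Lim.QuasiFiniteFactor
import Groth.Agent.H17.QcImage
import Mathlib.AlgebraicGeometry.Morphisms.Proper
import Mathlib.AlgebraicGeometry.Morphisms.Finite
import Mathlib.AlgebraicGeometry.Morphisms.QuasiFinite
import Mathlib.AlgebraicGeometry.PullbackCarrier
import Mathlib.AlgebraicGeometry.Noetherian
import Mathlib.Topology.KrullDimension

/-!
# Quasi-finite separated morphisms with finite fibres over a base of dimension at most one are affine
-/

set_option autoImplicit false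
set_option linter.style.haveILetI false
set_option linter.unusedVariables false
set_option backward.isDefEq.respectTransparency false

universe u

open CategoryTheory CategoryTheory.Limits AlgebraicGeometry TopologicalSpace

namespace Groth.Agent.H06AffineQF

/-- No chain of three distinct specializations in dimension at most one. -/
theorem eq_or_eq_of_specializes {T : Type u} [TopologicalSpace T] [T0Space T]
    (hdim : topologicalKrullDim T ≤ 1) {a b c : T} (h₁ : a ⤳ b) (h₂ : b ⤳ c) : a = b ∨ b = c := by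
  by_contra! h
  let mk : T → IrreducibleCloseds T := fun x =>
    ⟨closure {x}, isIrreducible_singleton.closure, isClosed_closure⟩
  have hlt : ∀ {x y : T}, x ⤳ y → x ≠ y → mk y < mk x := by
    intro x y hxy hne
    refine lt_of_le_of_ne (specializes_iff_closure_subset.1 hxy) fun e => hne ?_
    have e' : closure ({y} : Set T) = closure {x} := congrArg (fun Z : IrreducibleCloseds T => (Z : Set T)) e
    exact (hxy.antisymm (specializes_iff_closure_subset.2 e'.ge)).eq
  unfold topologicalKrullDim at hdim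
  have l := Order.LTSeries.length_le_krullDim
    (((RelSeries.singleton _ (mk c)).snoc (mk b) (hlt h₂ h.2)).snoc (mk a) (by simpa using hlt h₁ h.1))
  have : ((2 : ℕ) : WithBot ℕ∞) ≤ 1 := le_trans (by simpa using l) hdim
  norm_cast at this

/-- An element vanishing at a closed point of a one dimensional affine Noetherian scheme, with
finitely many zeros, all closed. -/
theorem exists_parameter {R : Type u} [CommRing R] [IsNoetherianRing R]
    (hdim : ∀ P Q M : Ideal R, P.IsPrime → Q.IsPrime → M.IsPrime → P ≤ Q → Q ≤ M → P = Q ∨ Q = M)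
    (m : Ideal R) [m.IsMaximal] :
    ∃ t ∈ m, ({P : PrimeSpectrum R | t ∈ P.asIdeal}).Finite ∧
      ∀ P : PrimeSpectrum R, t ∈ P.asIdeal → P.asIdeal ≤ m → P.asIdeal = m := by
  classical
  have hfin := minimalPrimes.finite_of_isNoetherianRing R
  have : ¬ ((m : Set R) ⊆ ⋃ P ∈ (↑(hfin.toFinset.erase m) : Set (Ideal R)), (P : Set R)) := by
    rw [Ideal.subset_union_prime ⊥ ⊥ fun P hP _ _ => ((hfin.mem_toFinset.1 (Finset.mem_of_mem_erase hP)).1).1]
    rintro ⟨P, hP, hle⟩
    obtain ⟨hne, hP'⟩ := Finset.mem_erase.1 hP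
    exact hne (Ideal.IsMaximal.eq_of_le ‹_› (hfin.mem_toFinset.1 hP').1.1.ne_top hle).symm
  obtain ⟨t, htm, ht⟩ := Set.not_subset.1 this
  have hmin : ∀ Q ∈ minimalPrimes R, t ∈ Q → Q = m := fun Q hQ htQ => by
    by_contra hne
    exact ht (Set.mem_biUnion (Finset.mem_coe.2 (Finset.mem_erase.2 ⟨hne, hfin.mem_toFinset.2 hQ⟩)) htQ)
  refine ⟨t, htm, ?_, fun P hP hPm => ?_⟩
  · refine Set.Finite.subset (s := PrimeSpectrum.asIdeal ⁻¹' (insert m
      ((Ideal.span {t}).minimalPrimes))) (Set.Finite.preimage ?_ ?_) fun P hP => ?_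
    · intro x _ y _ e; exact PrimeSpectrum.ext e
    · exact (Ideal.finite_minimalPrimes_of_isNoetherianRing R _).insert m
    · change t ∈ P.asIdeal at hP
      by_cases hPm : P.asIdeal = m
      · exact Or.inl hPm
      obtain ⟨Q, hQ, hQP⟩ := Ideal.exists_minimalPrimes_le
        (show Ideal.span {t} ≤ P.asIdeal from (Ideal.span_singleton_le_iff_mem _).2 hP)
      haveI := hQ.1.1
      obtain ⟨Q₀, hQ₀, hQ₀Q⟩ := Ideal.exists_minimalPrimes_le (bot_le (a := Q)) (J := Q)
      rcases hdim Q₀ Q P.asIdeal hQ₀.1.1 hQ.1.1 P.2 hQ₀Q hQP with e | e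
      · have hQm := hmin Q₀ hQ₀ (e ▸ hQ.1.2 (Ideal.mem_span_singleton_self t))
        have := (e.symm.trans hQm) ▸ hQP
        exact absurd (Ideal.IsMaximal.eq_of_le ‹m.IsMaximal› P.2.ne_top this).symm hPm
      · exact Or.inr (e ▸ hQ)
  · obtain ⟨Q₀, hQ₀, hQ₀P⟩ := Ideal.exists_minimalPrimes_le (bot_le (a := P.asIdeal)) (J := P.asIdeal)
    rcases hdim Q₀ P.asIdeal m hQ₀.1.1 P.2 inferInstance hQ₀P hPm with e | e
    · exact e.symm.trans (hmin Q₀ hQ₀ (e.symm ▸ hP))
    · exact e

/-- An open immersion into a Noetherian scheme over a base of dimension at most one whose fibres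
are closed in the fibres is affine. -/
theorem isAffineHom_of_fibre_closed {S T X : Scheme.{u}} [IsLocallyNoetherian S] [IsLocallyNoetherian T]
    (hdim : topologicalKrullDim S ≤ 1) (g : T ⟶ S) (j : X ⟶ T) [IsOpenImmersion j]
    (H : ∀ x y : T, x ∈ Set.range j → x ⤳ y → g x = g y → y ∈ Set.range j) :
    IsAffineHom j := by
  let O : T.Opens := j.opensRange
  have hO : (O : Set T) = Set.range j := rfl
  suffices h : ∀ d : T, ∃ W : T.Opens, d ∈ W ∧ IsAffineOpen W ∧ IsAffineOpen (O ⊓ W) by
    refine isAffineHom_of_forall_exists_isAffineOpen j fun d => ?_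
    obtain ⟨W, hd, hW, hOW⟩ := h d
    refine ⟨W, hd, hW, ?_⟩
    rw [← j.isAffineOpen_iff_of_isOpenImmersion, Scheme.Hom.image_preimage_eq_opensRange_inf]
    exact hOW
  intro d
  by_cases hdO : d ∈ O
  · obtain ⟨W, hW, hdW, hWO⟩ := exists_isAffineOpen_mem_and_subset (U := O) hdO
    exact ⟨W, hdW, hW, by rwa [inf_eq_right.2 (show W ≤ O from hWO)]⟩
  by_cases hdc : d ∈ closure (O : Set T)
  swap
  · obtain ⟨W, hW, hdW, hWO⟩ := exists_isAffineOpen_mem_and_subset
      (U := (⟨(closure (O : Set T))ᶜ, isClosed_closure.isOpen_compl⟩ : T.Opens)) hdc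
    refine ⟨W, hdW, hW, ?_⟩
    rw [show O ⊓ W = ⊥ from eq_bot_iff.2 fun x hx => absurd (subset_closure hx.1) (hWO hx.2)]
    exact isAffineOpen_bot T
  -- an affine neighbourhood of the image of the point
  obtain ⟨U, hU, hsU, -⟩ := exists_isAffineOpen_mem_and_subset (U := (⊤ : S.Opens)) (x := g d) trivial
  obtain ⟨W₀, hW₀, hdW₀, hW₀U⟩ := exists_isAffineOpen_mem_and_subset (U := g ⁻¹ᵁ U) (x := d) hsU
  haveI : IsNoetherianRing Γ(T, W₀) := IsLocallyNoetherian.component_noetherian ⟨W₀, hW₀⟩
  haveI : NoetherianSpace (W₀ : Set T) :=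
    (noetherianSpace_iff_of_homeomorph (hW₀.isoSpec.hom.homeomorph)).2 inferInstance
  -- closed points of the base under the boundary
  have key : ∀ x ∈ W₀, x ∈ closure (O : Set T) → x ∉ O → ∀ y : S, g x ⤳ y → g x = y := by
    intro x hxW hxc hxO y hy
    obtain ⟨w, hwx⟩ := H17.exists_specializes_of_mem_closure_range j (hO ▸ hxc)
    obtain ⟨z, hz, hzx⟩ : ∃ z ∈ O, z ⤳ x := ⟨j w, ⟨w, rfl⟩, hwx⟩
    rcases eq_or_eq_of_specializes hdim (hzx.map g.continuous) hy with e | e
    · exact absurd (H z x hz hzx e) hxO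
    · exact e
  have hs : IsClosed ({g d} : Set S) := by
    have : closure ({g d} : Set S) = {g d} := Set.Subset.antisymm (fun y hy =>
      (key d hdW₀ hdc hdO y (specializes_iff_mem_closure.2 hy)).symm) subset_closure
    exact this ▸ isClosed_closure
  -- the parameter
  haveI : IsNoetherianRing Γ(S, U) := IsLocallyNoetherian.component_noetherian ⟨U, hU⟩
  let m := hU.primeIdealOf ⟨g d, hsU⟩
  haveI : m.asIdeal.IsMaximal := by
    rw [← PrimeSpectrum.isClosed_singleton_iff_isMaximal]
    have : ({m} : Set (PrimeSpectrum Γ(S, U))) = hU.fromSpec ⁻¹' {g d} := by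
      ext q
      simp only [Set.mem_singleton_iff, Set.mem_preimage]
      constructor
      · rintro rfl
        exact hU.fromSpec_primeIdealOf ⟨g d, hsU⟩
      · intro hq
        exact hU.fromSpec.isOpenEmbedding.injective (hq.trans (hU.fromSpec_primeIdealOf ⟨g d, hsU⟩).symm)
    exact this ▸ hs.preimage hU.fromSpec.continuous
  obtain ⟨t, htm, htf, htmin⟩ := exists_parameter (R := Γ(S, U)) (fun P Q M hP hQ hM h1 h2 => by
    rcases eq_or_eq_of_specializes hdim
      (((PrimeSpectrum.le_iff_specializes (⟨P, hP⟩ : PrimeSpectrum Γ(S, U)) ⟨Q, hQ⟩).1 h1).map hU.fromSpec.continuous)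
      (((PrimeSpectrum.le_iff_specializes (⟨Q, hQ⟩ : PrimeSpectrum Γ(S, U)) ⟨M, hM⟩).1 h2).map hU.fromSpec.continuous)
      with e | e
    · exact Or.inl (congrArg PrimeSpectrum.asIdeal (hU.fromSpec.isOpenEmbedding.injective e))
    · exact Or.inr (congrArg PrimeSpectrum.asIdeal (hU.fromSpec.isOpenEmbedding.injective e))) m.asIdeal
  have hprime : ∀ y (hy : y ∈ U), y ∈ S.basicOpen t ↔ t ∉ (hU.primeIdealOf ⟨y, hy⟩).asIdeal := fun y hy => by
    have : y ∈ S.basicOpen t ↔ hU.primeIdealOf ⟨y, hy⟩ ∈ hU.fromSpec ⁻¹ᵁ (S.basicOpen t) := by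
      show _ ↔ hU.fromSpec _ ∈ S.basicOpen t
      rw [hU.fromSpec_primeIdealOf]
    rw [this, hU.fromSpec_preimage_basicOpen]
    rfl
  have hst : g d ∉ S.basicOpen t := fun h => (hprime _ hsU).1 h htm
  -- the other zeros of the parameter
  let Z : Set S := (hU.fromSpec '' {P | t ∈ P.asIdeal}) \ {g d}
  have hgZ : IsClosed (closure Z) := isClosed_closure
  have hdZ : g d ∉ closure Z := by
    have hZf : Z.Finite := (htf.image _).sdiff
    rw [← Set.biUnion_of_singleton Z, hZf.closure_biUnion]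
    simp only [Set.mem_iUnion, not_exists]
    intro y hy hdy
    have hyd : y ⤳ g d := specializes_iff_mem_closure.2 hdy
    obtain ⟨⟨P, hP, rfl⟩, hne⟩ := hy
    have hle : P.asIdeal ≤ m.asIdeal := by
      refine (PrimeSpectrum.le_iff_specializes P m).2 ?_
      refine hU.fromSpec.isOpenEmbedding.isInducing.specializes_iff.1 ?_
      simpa only [m, hU.fromSpec_primeIdealOf] using hyd
    refine hne ?_
    rw [show P = m from PrimeSpectrum.ext (htmin P hP hle)]
    exact hU.fromSpec_primeIdealOf ⟨g d, hsU⟩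
  -- the boundary lies over finitely many closed points
  let B : Set T := (closure (O : Set T) \ O) ∩ W₀
  haveI : NoetherianSpace B :=
    (Topology.IsEmbedding.inclusion (Set.inter_subset_right (s := closure (O : Set T) \ O) (t := W₀))).isInducing.noetherianSpace
  have hBf : (g '' B).Finite := by
    have hc : ∀ C ∈ irreducibleComponents B, ∃ y, ∀ v ∈ C, g (v : T) = y := by
      intro C hC
      have hirr : IsIrreducible ((fun v : B => (v : T)) '' C) :=
        hC.1.image _ continuous_subtype_val.continuousOn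
      obtain ⟨w, hw⟩ := QuasiSober.sober hirr.closure isClosed_closure
      obtain ⟨v₀, hv₀⟩ := hC.1.nonempty
      have hwW : w ∈ W₀ := (hw.specializes (subset_closure ⟨v₀, hv₀, rfl⟩)).mem_open W₀.2 v₀.2.2
      have hwB : w ∈ closure (O : Set T) \ O := by
        have hcl : IsClosed (closure (O : Set T) \ O) := isClosed_closure.sdiff O.2
        exact closure_minimal (by rintro _ ⟨v, -, rfl⟩; exact v.2.1) hcl
          (show w ∈ closure ((fun v : B => (v : T)) '' C) from hw.mem)
      refine ⟨g w, fun v hv => ?_⟩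
      exact (key w hwW hwB.1 hwB.2 _ ((hw.specializes (subset_closure ⟨v, hv, rfl⟩)).map g.continuous)).symm
    choose y hy using hc
    refine ((NoetherianSpace.finite_irreducibleComponents (α := B)).dependent_image y).subset ?_
    rintro _ ⟨v, hv, rfl⟩
    have hmem : (⟨v, hv⟩ : B) ∈ ⋃₀ irreducibleComponents B := by
      rw [sUnion_irreducibleComponents]; trivial
    obtain ⟨C, hC, hvC⟩ := hmem
    exact ⟨C, hC, (hy C hC ⟨v, hv⟩ hvC).symm⟩
  have hBclosed : ∀ y ∈ g '' B, IsClosed ({y} : Set S) := by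
    rintro _ ⟨x, ⟨⟨hxc, hxO⟩, hxW⟩, rfl⟩
    refine isClosed_of_closure_subset fun z hz => ?_
    exact (key x hxW hxc hxO z (specializes_iff_mem_closure.2 hz)).symm
  let C₃ : Set S := (g '' B) \ {g d}
  have hC₃ : IsClosed C₃ := by
    rw [← Set.biUnion_of_singleton C₃]
    exact hBf.sdiff.isClosed_biUnion fun y hy => hBclosed y hy.1
  let K : Set T := closure ((O : Set T) ∩ g ⁻¹' {g d})
  have hdK : d ∉ K := fun hdK => by
    let c := S.fromSpecResidueField (g d)
    let f := pullback.fst (j ≫ g) c ≫ j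
    have hf : Set.range f = (O : Set T) ∩ g ⁻¹' {g d} := by
      rw [Scheme.Hom.comp_base, TopCat.coe_comp, Set.range_comp, Scheme.Pullback.range_fst,
        Scheme.range_fromSpecResidueField]
      ext x
      constructor
      · rintro ⟨w, hw, rfl⟩
        exact ⟨⟨w, rfl⟩, hw⟩
      · rintro ⟨⟨w, rfl⟩, hw⟩
        exact ⟨w, hw, rfl⟩
    obtain ⟨w, hw⟩ := H17.exists_specializes_of_mem_closure_range f (show d ∈ closure (Set.range f) by rw [hf]; exact hdK)
    obtain ⟨x, hx, hxd⟩ : ∃ x ∈ (O : Set T), g x = g d ∧ x ⤳ d :=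
      have h : f w ∈ (O : Set T) ∩ g ⁻¹' {g d} := hf ▸ ⟨w, rfl⟩
      ⟨f w, h.1, h.2, hw⟩
    exact hdO (H x d hx hxd.2 hxd.1)
  obtain ⟨W, hW, hdW, hWsub⟩ := exists_isAffineOpen_mem_and_subset
    (U := W₀ ⊓ (⟨K, isClosed_closure⟩ : Closeds T).compl ⊓ g ⁻¹ᵁ (⟨closure Z, hgZ⟩ : Closeds S).compl ⊓
      g ⁻¹ᵁ (⟨C₃, hC₃⟩ : Closeds S).compl) (x := d) ⟨⟨⟨hdW₀, hdK⟩, hdZ⟩, fun h => h.2 rfl⟩
  refine ⟨W, hdW, hW, ?_⟩
  have hWW₀ : W ≤ W₀ := fun x hx => (hWsub hx).1.1.1
  have hWU : W ≤ g ⁻¹ᵁ U := fun x hx => hW₀U (hWW₀ hx)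
  let Wt := T.basicOpen (g.appLE U W hWU t)
  have hWt : Wt = W ⊓ g ⁻¹ᵁ S.basicOpen t := by
    simp only [Wt, Scheme.Hom.appLE, CommRingCat.comp_apply]
    rw [Scheme.basicOpen_res, ← Scheme.preimage_basicOpen]
  have hle : O ⊓ W ≤ Wt := by
    rw [hWt]
    rintro x ⟨hxO, hxW⟩
    refine ⟨hxW, by_contra fun hxt => ?_⟩
    have hxU : g x ∈ U := hWU hxW
    by_cases hxd : g x = g d
    · exact (hWsub hxW).1.1.2 (subset_closure ⟨hxO, hxd⟩)
    · exact (hWsub hxW).1.2 (subset_closure ⟨⟨hU.primeIdealOf ⟨g x, hxU⟩,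
        not_not.1 (mt (hprime _ hxU).2 hxt), hU.fromSpec_primeIdealOf _⟩, hxd⟩)
  haveI : IsAffine Wt.toScheme := hW.basicOpen _
  haveI : IsClosedImmersion (T.homOfLE hle) := by
    refine IsClosedImmersion.of_isPreimmersion _ ?_
    rw [show Set.range (T.homOfLE hle) = Wt.ι ⁻¹' closure (O : Set T) from ?_]
    · exact isClosed_closure.preimage Wt.ι.continuous
    ext ⟨x, hx⟩
    constructor
    · rintro ⟨z, hz⟩
      have : z.1 = x := by simpa using congrArg Wt.ι hz
      exact subset_closure (this ▸ z.2.1)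
    · intro hxc
      have hx' : x ∈ W ⊓ g ⁻¹ᵁ S.basicOpen t := hWt ▸ hx
      have hxO : x ∈ O := by
        by_contra hxO
        have hxd : g x = g d := by
          by_contra hne
          exact (hWsub hx'.1).2 ⟨⟨x, ⟨⟨hxc, hxO⟩, hWW₀ hx'.1⟩, rfl⟩, hne⟩
        exact hst (hxd ▸ hx'.2)
      exact ⟨⟨x, hxO, hx'.1⟩, Subtype.ext (by simp)⟩
  exact isAffine_of_isAffineHom (T.homOfLE hle)

/-- A quasi-finite separated morphism with finite fibres over a base of dimension at most one is
affine. -/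
theorem isAffineHom_of_finite_fibres {S X Y : Scheme.{u}} [IsLocallyNoetherian S]
    (hdim : topologicalKrullDim S ≤ 1) (q : Y ⟶ S) [LocallyOfFiniteType q] (u : X ⟶ Y)
    [LocallyQuasiFinite u] [LocallyOfFiniteType u] [QuasiCompact u] [IsSeparated u]
    (hfin : ∀ s : S, IsFinite (pullback.snd u (pullback.fst q (S.fromSpecResidueField s)))) :
    IsAffineHom u := by
  refine IsZariskiLocalAtTarget.of_iSup_eq_top (fun V : Y.affineOpens => (V : Y.Opens))
    (iSup_affineOpens_eq_top Y) fun V => ?_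
  haveI : IsAffine (V : Y.Opens).toScheme := V.2
  let f := u ∣_ (V : Y.Opens)
  haveI : LocallyQuasiFinite f := IsZariskiLocalAtTarget.restrict ‹LocallyQuasiFinite u› _
  haveI : LocallyOfFiniteType f := IsZariskiLocalAtTarget.restrict ‹LocallyOfFiniteType u› _
  haveI : QuasiCompact f := IsZariskiLocalAtTarget.restrict ‹QuasiCompact u› _
  haveI : IsSeparated f := IsZariskiLocalAtTarget.restrict ‹IsSeparated u› _
  obtain ⟨T, j, π, hj, -, hπ, hjπ⟩ := H7Lim.exists_openImmersion_finite f
  let g : T ⟶ S := π ≫ (V : Y.Opens).ι ≫ q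
  haveI : LocallyOfFiniteType g := inferInstance
  haveI : IsLocallyNoetherian T := LocallyOfFiniteType.isLocallyNoetherian g
  suffices IsAffineHom j by
    show IsAffineHom f
    rw [← hjπ]
    infer_instance
  refine isAffineHom_of_fibre_closed hdim g j fun x y hx hxy hg => ?_
  let s := g x
  let c := S.fromSpecResidueField s
  -- the fibres
  let Ts := pullback g c
  let a : pullback (j ≫ g) c ⟶ Ts := pullback.lift (pullback.fst _ c ≫ j) (pullback.snd _ c)
    (by rw [Category.assoc, pullback.condition])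
  let b : Ts ⟶ pullback ((V : Y.Opens).ι ≫ q) c := pullback.lift (pullback.fst g c ≫ π)
    (pullback.snd g c) (by rw [Category.assoc]; exact pullback.condition)
  haveI : IsSeparated b := by
    haveI : IsSeparated (b ≫ pullback.fst ((V : Y.Opens).ι ≫ q) c) := by
      rw [pullback.lift_fst]
      infer_instance
    exact IsSeparated.of_comp b (pullback.fst ((V : Y.Opens).ι ≫ q) c)
  haveI : IsFinite (a ≫ b) := by
    let v : pullback (j ≫ g) c ⟶ pullback ((V : Y.Opens).ι ≫ q) c :=
      pullback.lift (pullback.fst _ c ≫ f) (pullback.snd _ c)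
        (by rw [← hjπ]; simp only [Category.assoc]; exact pullback.condition)
    let w : pullback ((V : Y.Opens).ι ≫ q) c ⟶ pullback q c :=
      pullback.lift (pullback.fst _ c ≫ (V : Y.Opens).ι) (pullback.snd _ c)
        (by simp only [Category.assoc]; exact pullback.condition)
    have hw : IsPullback w (pullback.fst _ c) (pullback.fst q c) (V : Y.Opens).ι := by
      refine IsPullback.of_right ?_ (by rw [pullback.lift_fst]) (IsPullback.of_hasPullback q c).flip
      rw [pullback.lift_snd]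
      exact (IsPullback.of_hasPullback ((V : Y.Opens).ι ≫ q) c).flip
    have e : j ≫ g = f ≫ (V : Y.Opens).ι ≫ q := by rw [← hjπ, Category.assoc]
    have hv : IsPullback (pullback.fst (j ≫ g) c) v f (pullback.fst ((V : Y.Opens).ι ≫ q) c) := by
      refine IsPullback.of_bot ?_ (by rw [pullback.lift_fst]) (IsPullback.of_hasPullback _ c)
      rw [pullback.lift_snd, ← e]
      exact IsPullback.of_hasPullback (j ≫ g) c
    have hcomp := hv.paste_horiz (isPullback_morphismRestrict u (V : Y.Opens)).flip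
    rw [← hw.w] at hcomp
    let l : pullback (j ≫ g) c ⟶ pullback u (pullback.fst q c) :=
      pullback.lift (pullback.fst _ c ≫ (u ⁻¹ᵁ (V : Y.Opens)).ι) (v ≫ w)
        (by rw [hcomp.w, Category.assoc])
    have hl : IsPullback l v (pullback.snd u (pullback.fst q c)) w := by
      refine IsPullback.of_right ?_ (by rw [pullback.lift_snd]) (IsPullback.of_hasPullback u (pullback.fst q c))
      rw [pullback.lift_fst]
      exact hcomp
    haveI : IsFinite v := MorphismProperty.of_isPullback hl (hfin s)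
    have : a ≫ b = v := by
      refine pullback.hom_ext ?_ ?_
      · simp [a, b, v, ← hjπ]
      · simp [a, b, v]
    rw [this]
    infer_instance
  haveI : IsProper a := IsProper.of_comp a b
  -- closedness of the fibre
  obtain ⟨z, rfl⟩ := hx
  have hsx : g (j z) ∈ Set.range c := by
    rw [Scheme.range_fromSpecResidueField]; rfl
  have hsy : g y ∈ Set.range c := hg ▸ hsx
  obtain ⟨z', hz'⟩ : z ∈ Set.range (pullback.fst (j ≫ g) c) := by
    rw [Scheme.Pullback.range_fst]; exact hsx
  obtain ⟨y', hy'⟩ : y ∈ Set.range (pullback.fst g c) := by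
    rw [Scheme.Pullback.range_fst]; exact hsy
  haveI : IsPreimmersion (pullback.fst g c) := MorphismProperty.pullback_fst _ _ inferInstance
  have h1 : pullback.fst g c (a z') = j z := by
    rw [← Scheme.Hom.comp_apply, pullback.lift_fst, Scheme.Hom.comp_apply, hz']
  have hspec : a z' ⤳ y' := (pullback.fst g c).isEmbedding.isInducing.specializes_iff.1
    (by rw [h1, hy']; exact hxy)
  obtain ⟨z'', hz''⟩ := hspec.mem_closed a.isClosedMap.isClosed_range ⟨z', rfl⟩
  refine ⟨pullback.fst (j ≫ g) c z'', ?_⟩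
  rw [← hy', ← hz'', ← Scheme.Hom.comp_apply, ← Scheme.Hom.comp_apply, pullback.lift_fst]

end Groth.Agent.H06AffineQF
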