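import Groth.Agent.H06AffineQF.Main
import Mathlib.CategoryTheory.Comma.Over.Pullback

/-! Base change of a morphism over the base to a fibre. -/

set_option autoImplicit false
set_option backward.isDefEq.respectTransparency false

universe u

open CategoryTheory CategoryTheory.Limits AlgebraicGeometry

namespace Groth.Agent.H06AffineQF

variable {S S' : Scheme.{u}} (c : S' ⟶ S) {X Y : Over S} (u : X ⟶ Y)

theorem isPullback_map_left :
    IsPullback (pullback.fst X.hom c) ((Over.pullback c).map u).left u.left (pullback.fst Y.hom c) := by
  refine IsPullback.of_bot ?_ (by simp) (IsPullback.of_hasPullback Y.hom c)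
  rw [Over.w u, show ((Over.pullback c).map u).left ≫ pullback.snd Y.hom c = pullback.snd X.hom c from
    by simp]
  exact IsPullback.of_hasPullback X.hom c

/-- The pulled back map is isomorphic to the projection from the fibre product. -/
theorem prop_snd_iff (P : MorphismProperty Scheme.{u}) [P.RespectsIso] :
    P (pullback.snd u.left (pullback.fst Y.hom c)) ↔ P ((Over.pullback c).map u).left := by
  conv_rhs => rw [← (isPullback_map_left c u).isoPullback_hom_snd, P.cancel_left_of_respectsIso]

end Groth.Agent.H06AffineQF
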